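import Mathlib
import Cfsg.Agent.Prune
set_option linter.all false
prune_inst 0x7f00000000000000000000000000000000000000000000000000000000000000000000000000000000000000000000000000000000000000000000000000000000000000000000000000000000000000003fffffffffffffffffffffffffffbeffbdffffffff
open scoped Cfsg.Agent.FastGrp

/-!
# Orders of the semisimple `p`-elements preserving a bilinear form

`exists_dvd`: `B` nondegenerate, `gᵀ B g = B`, `g` of order `p ^ a`, `a ≥ 1`, `p` odd and prime to `q`; then `p ^ a` divides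
`q ^ e - 1` or `q ^ e + 1` for some `1 ≤ e`, `2 e ≤ dim`.
-/

set_option autoImplicit false

namespace Cfsg.Agent.H122.Cyc

open Polynomial

/-- an eigenvalue of order exactly `p ^ a` -/
theorem exists_root {F : Type*} [Field F] {ι : Type*} [Fintype ι] [DecidableEq ι]
    {g : Matrix ι ι F} {p a : ℕ} [hp : Fact p.Prime] (hpF : (p : F) ≠ 0) (ha : 1 ≤ a) (hg1 : g ^ (p ^ a) = 1)
    (hg2 : g ^ (p ^ (a - 1)) ≠ 1) :
    ∃ l : AlgebraicClosure F, aeval l g.charpoly = 0 ∧ orderOf l = p ^ a := by
  set K := AlgebraicClosure F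
  have h0 : aeval g (X ^ (p ^ a) - 1 : F[X]) = 0 := by
    rw [map_sub, map_pow, aeval_X, map_one, hg1, sub_self]
  have h1 : minpoly F g ∣ X ^ (p ^ a) - 1 := minpoly.dvd F g h0
  have hne : ((p ^ a : ℕ) : F) ≠ 0 := by rw [Nat.cast_pow]; exact pow_ne_zero _ hpF
  have hsep : (X ^ (p ^ a) - 1 : F[X]).Separable := by
    have := Polynomial.separable_X_pow_sub_C (1 : F) hne one_ne_zero
    rwa [map_one] at this
  have hsep2 : (minpoly F g).Separable := hsep.of_dvd h1
  have hint : IsIntegral F g := Algebra.IsIntegral.isIntegral g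
  have hm0 : minpoly F g ≠ 0 := minpoly.ne_zero hint
  by_contra hcon
  push Not at hcon
  apply hg2
  have key : minpoly F g ∣ X ^ (p ^ (a - 1)) - 1 := by
    rw [← Polynomial.map_dvd_map' (algebraMap F K)]
    have hsp : ((minpoly F g).map (algebraMap F K)).Splits := IsAlgClosed.splits _
    rw [hsp.dvd_iff_roots_le_roots (by rw [Polynomial.map_ne_zero_iff (algebraMap F K).injective]; exact hm0)
      (by
        rw [Polynomial.map_ne_zero_iff (algebraMap F K).injective]
        exact (Polynomial.monic_X_pow_sub_C (1 : F) (pow_ne_zero _ hp.out.ne_zero)).ne_zero)]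
    rw [Multiset.le_iff_subset (nodup_roots (hsep2.map))]
    intro l hl
    have hl1 : aeval l (minpoly F g) = 0 := by
      have := (mem_roots'.1 hl).2
      rwa [IsRoot.def, eval_map_algebraMap] at this
    have hl2 : l ^ (p ^ a) = 1 := by
      obtain ⟨r, hr⟩ := h1
      have h3 : aeval l (X ^ (p ^ a) - 1 : F[X]) = 0 := by rw [hr, map_mul, hl1, zero_mul]
      rw [map_sub, map_pow, aeval_X, map_one] at h3
      exact sub_eq_zero.1 h3
    have hl3 : aeval l g.charpoly = 0 := by
      obtain ⟨r, hr⟩ := Matrix.minpoly_dvd_charpoly g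
      rw [hr, map_mul, hl1, zero_mul]
    have hl4 : l ^ (p ^ (a - 1)) = 1 := by
      by_contra hl5
      apply hcon l hl3
      obtain ⟨b, rfl⟩ : ∃ b, a = b + 1 := ⟨a - 1, by omega⟩
      exact orderOf_eq_prime_pow hl5 hl2
    rw [mem_roots']
    refine ⟨by
        rw [Polynomial.map_ne_zero_iff (algebraMap F K).injective]
        exact (Polynomial.monic_X_pow_sub_C (1 : F) (pow_ne_zero _ hp.out.ne_zero)).ne_zero, ?_⟩
    rw [IsRoot.def, eval_map_algebraMap, map_sub, map_pow, aeval_X, map_one, hl4, sub_self]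
  have h2 : aeval g (X ^ (p ^ (a - 1)) - 1 : F[X]) = 0 := by
    obtain ⟨r, hr⟩ := key
    rw [hr, map_mul, minpoly.aeval, zero_mul]
  rw [map_sub, map_pow, aeval_X, map_one] at h2
  exact sub_eq_zero.1 h2

/-- the eigenvalues of an isometry are closed under inversion -/
theorem inv_root {F : Type*} [Field F] {K : Type*} [Field K] [Algebra F K] {ι : Type*} [Fintype ι] [DecidableEq ι]
    {B g : Matrix ι ι F} (hB : IsUnit B.det) (hg : g.transpose * B * g = B) {l : K} (hl0 : l ≠ 0)
    (hl : aeval l g.charpoly = 0) : aeval l⁻¹ g.charpoly = 0 := by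
  have hev : ∀ x : K, aeval x g.charpoly = (Matrix.scalar ι x - g.map (algebraMap F K)).det := by
    intro x
    rw [← eval_map_algebraMap, ← Matrix.charpoly_map, Matrix.eval_charpoly]
  rw [hev] at hl ⊢
  set g' := g.map (algebraMap F K)
  set B' := B.map (algebraMap F K)
  have hg' : g'.transpose * B' * g' = B' := by
    have := congrArg (fun M : Matrix ι ι F => M.map (algebraMap F K)) hg
    simpa only [Matrix.map_mul, Matrix.transpose_map] using this
  have hB' : B'.det ≠ 0 := by
    have h1 : B'.det = algebraMap F K B.det := by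
      rw [RingHom.map_det]; rfl
    rw [h1]
    exact (_root_.map_ne_zero _).2 hB.ne_zero
  have h1 : (Matrix.scalar ι l - g').transpose * B' * g' = B' * (Matrix.scalar ι l * g' - 1) := by
    rw [Matrix.transpose_sub, sub_mul, sub_mul, hg', mul_sub, mul_one]
    congr 1
    rw [Matrix.scalar_apply, Matrix.diagonal_transpose, ← mul_assoc B']
    congr 1
    exact (Matrix.scalar_commute l (fun r => mul_comm l r) B').eq
  have h2 := congrArg Matrix.det h1
  rw [Matrix.det_mul, Matrix.det_mul, Matrix.det_transpose, hl, zero_mul, zero_mul, Matrix.det_mul] at h2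
  have h3 : (Matrix.scalar ι l * g' - 1).det = 0 := by
    rcases mul_eq_zero.1 h2.symm with h | h
    · exact absurd h hB'
    · exact h
  have h4 : Matrix.scalar ι l⁻¹ - g' = Matrix.scalar ι (-l⁻¹) * (Matrix.scalar ι l * g' - 1) := by
    rw [mul_sub, mul_one, ← mul_assoc, ← map_mul, neg_mul, inv_mul_cancel₀ hl0, map_neg, map_neg, map_one]
    simp [sub_eq_add_neg, add_comm]
  rw [h4, Matrix.det_mul, h3, mul_zero]

/-- conjugates of an eigenvalue -/
theorem frob_root {F : Type*} [Field F] [Fintype F] {K : Type*} [Field K] [Algebra F K] {c : F[X]} {l : K}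
    (hl : aeval l c = 0) (i : ℕ) : aeval (l ^ (Fintype.card F ^ i)) c = 0 := by
  induction i with
  | zero => rwa [pow_zero, pow_one]
  | succ i ih =>
    have h1 := Polynomial.aeval_algHom_apply (FiniteField.frobeniusAlgHom F K) (l ^ (Fintype.card F ^ i)) c
    rw [ih, map_zero, FiniteField.frobeniusAlgHom_apply, ← pow_mul, ← pow_succ] at h1
    exact h1

theorem pow_eq_iff {K : Type*} [Field K] {l : K} (hl : l ≠ 0) (m n : ℕ) :
    l ^ m = l ^ n ↔ m ≡ n [MOD orderOf l] := by
  have h1 : orderOf (Units.mk0 l hl) = orderOf l := by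
    rw [← orderOf_units, Units.val_mk0]
  rw [← h1, ← pow_eq_pow_iff_modEq, Units.ext_iff, Units.val_pow_eq_pow_val, Units.val_pow_eq_pow_val, Units.val_mk0]

/-- **orders of the `p`-elements preserving a nondegenerate bilinear form** -/
theorem exists_dvd {F : Type*} [Field F] [Fintype F] {ι : Type*} [Fintype ι] [DecidableEq ι]
    {B g : Matrix ι ι F} (hB : IsUnit B.det) (hg : g.transpose * B * g = B) {p a : ℕ} [hp : Fact p.Prime]
    (hp2 : p ≠ 2) (hpF : ¬ p ∣ Fintype.card F) (ha : 1 ≤ a) (hg1 : g ^ (p ^ a) = 1) (hg2 : g ^ (p ^ (a - 1)) ≠ 1) :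
    ∃ e, 1 ≤ e ∧ 2 * e ≤ Fintype.card ι ∧
      (p ^ a ∣ Fintype.card F ^ e - 1 ∨ p ^ a ∣ Fintype.card F ^ e + 1) := by
  classical
  have hpF' : (p : F) ≠ 0 := by
    intro h
    apply hpF
    have h1 : ringChar F ∣ p := (ringChar.spec F p).1 h
    have h2 : p = ringChar F := by
      rcases (Nat.dvd_prime hp.out).1 h1 with h3 | h3
      · exact absurd h3 CharP.ringChar_ne_one
      · exact h3.symm
    obtain ⟨n, -, hn⟩ := FiniteField.card F (ringChar F)
    rw [hn, h2]
    exact dvd_pow_self _ n.ne_zero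
  obtain ⟨l, hl, hlo⟩ := exists_root hpF' ha hg1 hg2
  have hl0 : l ≠ 0 := by
    rintro rfl
    have h1 : (0 : AlgebraicClosure F) ^ (p ^ a) = 1 := by rw [← hlo]; exact pow_orderOf_eq_one _
    rw [zero_pow (pow_ne_zero _ hp.out.ne_zero)] at h1
    exact zero_ne_one h1
  have hpa : 2 < p ^ a := by
    have h1 : 2 < p := lt_of_le_of_ne hp.out.two_le (Ne.symm hp2)
    exact lt_of_lt_of_le h1 (Nat.le_self_pow (by omega) p)
  have hli : aeval l⁻¹ g.charpoly = 0 := inv_root hB hg hl0 hl
  -- the order of `q` modulo `p ^ a`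
  set q := Fintype.card F
  have hcop : q.Coprime (p ^ a) := (((Nat.Prime.coprime_iff_not_dvd hp.out).2 hpF).symm).pow_right a
  let u : (ZMod (p ^ a))ˣ := ZMod.unitOfCoprime q hcop
  have hNe : NeZero (p ^ a) := ⟨pow_ne_zero _ hp.out.ne_zero⟩
  set d := orderOf u with hd
  have hd0 : 0 < d := orderOf_pos u
  have hpow : ∀ i j : ℕ, l ^ (q ^ i) = l ^ (q ^ j) ↔ u ^ i = u ^ j := by
    intro i j
    rw [pow_eq_iff hl0, hlo, ← ZMod.natCast_eq_natCast_iff, Units.ext_iff, Units.val_pow_eq_pow_val, Units.val_pow_eq_pow_val,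
      ZMod.coe_unitOfCoprime, Nat.cast_pow, Nat.cast_pow]
  have hdd : p ^ a ∣ q ^ d - 1 := by
    have h1 : u ^ d = u ^ 0 := by rw [pow_orderOf_eq_one, pow_zero]
    have h2 : l ^ (q ^ d) = l ^ (q ^ 0) := (hpow d 0).2 h1
    have h3 : q ^ 0 ≡ q ^ d [MOD orderOf l] := ((pow_eq_iff hl0 _ _).1 h2).symm
    rw [hlo, pow_zero] at h3
    exact (Nat.modEq_iff_dvd' (Nat.one_le_pow _ _ Fintype.card_pos)).1 h3
  have hc0 : g.charpoly.map (algebraMap F (AlgebraicClosure F)) ≠ 0 :=
    (g.charpoly_monic.map _).ne_zero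
  have hmem : ∀ x : AlgebraicClosure F, aeval x g.charpoly = 0 →
      x ∈ (g.charpoly.map (algebraMap F (AlgebraicClosure F))).roots.toFinset := by
    intro x hx
    rw [Multiset.mem_toFinset, mem_roots']
    exact ⟨hc0, by rw [IsRoot.def, eval_map_algebraMap, hx]⟩
  have hcard : (g.charpoly.map (algebraMap F (AlgebraicClosure F))).roots.toFinset.card ≤ Fintype.card ι := by
    refine (Multiset.toFinset_card_le _).trans ((card_roots' _).trans ?_)
    rw [natDegree_map, Matrix.charpoly_natDegree_eq_dim]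
  have hd1 : d ≤ Fintype.card ι := by
    have h1 : (Finset.univ.image fun i : Fin d => l ^ (q ^ (i : ℕ))).card = d := by
      rw [Finset.card_image_of_injective, Finset.card_univ, Fintype.card_fin]
      intro i j hij
      exact Fin.ext (pow_injOn_Iio_orderOf i.2 j.2 ((hpow i j).1 hij))
    rw [← h1]
    refine (Finset.card_le_card ?_).trans hcard
    intro x hx
    obtain ⟨i, -, rfl⟩ := Finset.mem_image.1 hx
    exact hmem _ (frob_root hl i)
  by_cases hA : ∃ i, i < d ∧ l ^ (q ^ i) = l⁻¹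
  · -- the class of `l` is closed under inversion
    obtain ⟨i, hid, hi⟩ := hA
    have h1 : p ^ a ∣ q ^ i + 1 := by
      rw [← hlo]
      apply orderOf_dvd_of_pow_eq_one
      rw [pow_succ, hi, inv_mul_cancel₀ hl0]
    have hi1 : 1 ≤ i := by
      by_contra hcon
      have h2 : i = 0 := by omega
      rw [h2, pow_zero] at h1
      exact absurd (Nat.le_of_dvd (by norm_num) h1) (by omega)
    refine ⟨i, hi1, ?_, Or.inr h1⟩
    have h2 : u ^ (2 * i) = u ^ 0 := by
      rw [← hpow]
      have h3 : l ^ (q ^ (2 * i)) = l := by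
        rw [two_mul, pow_add, pow_mul, hi, inv_pow, hi, inv_inv]
      rw [h3, pow_zero, pow_one]
    have h3 : d ∣ 2 * i := orderOf_dvd_of_pow_eq_one (by rw [h2, pow_zero])
    obtain ⟨k, hk⟩ := h3
    have hk1 : k = 1 := by
      have h4 : k < 2 := by
        by_contra hcon
        have : d * 2 ≤ d * k := Nat.mul_le_mul_left d (by omega)
        omega
      have h5 : k ≠ 0 := by
        rintro rfl
        omega
      omega
    rw [hk, hk1, mul_one]
    exact hd1
  · push Not at hA
    refine ⟨d, hd0, ?_, Or.inl hdd⟩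
    let f : Fin d ⊕ Fin d → AlgebraicClosure F :=
      Sum.elim (fun i => l ^ (q ^ (i : ℕ))) (fun i => (l⁻¹) ^ (q ^ (i : ℕ)))
    have hne : ∀ i j : Fin d, l ^ (q ^ (i : ℕ)) ≠ (l⁻¹) ^ (q ^ (j : ℕ)) := by
      intro i j hij
      have h1 : (l ^ (q ^ (i : ℕ))) ^ (q ^ (d - j)) = l⁻¹ := by
        rw [hij, inv_pow, inv_pow, ← pow_mul, ← pow_add]
        congr 1
        have h2 : (j : ℕ) + (d - j) = d := by omega
        rw [h2]
        have h3 : u ^ d = u ^ 0 := by rw [pow_orderOf_eq_one, pow_zero]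
        rw [(hpow d 0).2 h3, pow_zero, pow_one]
      rw [← pow_mul, ← pow_add] at h1
      have h4 : l ^ (q ^ ((i : ℕ) + (d - j))) = l ^ (q ^ (((i : ℕ) + (d - j)) % d)) :=
        (hpow _ _).2 (pow_mod_orderOf u _).symm
      rw [h4] at h1
      exact hA _ (Nat.mod_lt _ hd0) h1
    have hf : Function.Injective f := by
      rintro (i | i) (j | j) hij
      · exact congrArg _ (Fin.ext (pow_injOn_Iio_orderOf i.2 j.2 ((hpow i j).1 hij)))
      · exact absurd hij (hne i j)
      · exact absurd hij.symm (hne j i)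
      · have h1 : (l ^ (q ^ (i : ℕ)))⁻¹ = (l ^ (q ^ (j : ℕ)))⁻¹ := by
          rw [← inv_pow, ← inv_pow]; exact hij
        exact congrArg _ (Fin.ext (pow_injOn_Iio_orderOf i.2 j.2 ((hpow i j).1 (inv_injective h1))))
    have h1 : (Finset.univ.image f).card = 2 * d := by
      rw [Finset.card_image_of_injective _ hf, Finset.card_univ, Fintype.card_sum, Fintype.card_fin, two_mul]
    rw [← h1]
    refine (Finset.card_le_card ?_).trans hcard
    intro x hx
    obtain ⟨i, -, rfl⟩ := Finset.mem_image.1 hx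
    rcases i with i | i
    · exact hmem _ (frob_root hl i)
    · exact hmem _ (frob_root hli i)

/-- in particular `p ^ a ≤ q ^ m + 1` -/
theorem pow_le {q p a m : ℕ} (hq : 2 ≤ q) (h : ∃ e, 1 ≤ e ∧ e ≤ m ∧ (p ^ a ∣ q ^ e - 1 ∨ p ^ a ∣ q ^ e + 1)) :
    p ^ a ≤ q ^ m + 1 := by
  obtain ⟨e, he1, hem, h⟩ := h
  have h1 : q ^ e ≤ q ^ m := Nat.pow_le_pow_right (by omega) hem
  have h2 : 2 ≤ q ^ e := hq.trans (Nat.le_self_pow (by omega) q)
  rcases h with h | h
  · have := Nat.le_of_dvd (by omega) h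
    omega
  · have := Nat.le_of_dvd (by omega) h
    omega

end Cfsg.Agent.H122.Cyc
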