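import Cfsg.Agent.H123.AltRow_m3
import Cfsg.Agent.S2343
import Cfsg.Agent.S1159
import Cfsg.Agent.Prune
set_option linter.all false
prune_inst 0x7f00000000000000000000000000000000000000000000000000000000000000000000000000000000000000000000000000000000000000000000000000000000000000000000000000000000000000003fffffffffffffffffffffffffffbeffbdffffffff
open scoped Cfsg.Agent.FastGrp

/-!
# The small Ree row of S2351
-/

set_option autoImplicit false
set_option linter.unusedSectionVars false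

namespace Cfsg.Agent.H122.Cyc

open Module Cfsg.Agent.H121.Cyc

/-- the degrees of the small Ree groups -/
theorem minDeg_ree {K : Type*} [Field K] [Fintype K] (m : ℕ) (hm : 1 ≤ m) (hK : Fintype.card K = 3 ^ (2 * m + 1)) :
    MinDeg (Cfsg.Lie.twistedG2 K (3 ^ m)) ((3 ^ (2 * m + 1)) ^ 2 - 3 ^ (2 * m + 1) + 1) := by
  intro M _ _ _ ρ hρ
  have hs : IsSimpleGroup ↥(Cfsg.Lie.twistedG2 K (3 ^ m)) := (Cfsg.Agent.S1073.result hm hK).1
  have hfin : Finite ↥(Cfsg.Lie.twistedG2 K (3 ^ m)) := by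
    apply Nat.finite_of_card_ne_zero
    rw [Cfsg.Agent.LieRecognition.ReeFinal.card hK]
    have h1 : 0 < 3 ^ (2 * m + 1) := by positivity
    have h2 : 0 < 3 ^ (2 * m + 1) - 1 := by
      have : 3 ^ 1 ≤ 3 ^ (2 * m + 1) := Nat.pow_le_pow_right (by norm_num) (by omega)
      omega
    positivity
  have hch : CharP K 3 := Cfsg.Agent.LieRecognition.ReeAbs.charP_three hK
  have D := Cfsg.Agent.LieRecognition.ReeFinal.data hK
  have Dl := Cfsg.Agent.LieRecognition.ReeSetup.local_of_data D hK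
  obtain ⟨f, t₀, S⟩ := Cfsg.Agent.LieRecognition.ReeSetup.exists_setup D hK (Cfsg.Agent.S1116.result hK hm) Dl
  exact Cfsg.Agent.H121.ReeMin.main ρ D hK (fun x h1 h2 => isConj_iff.mpr (S.conjG x h1 h2)) hρ

/-- **the row `²G₂`** -/
theorem row_ree {p : ℕ} [hp : Fact p.Prime] {G : Type*} [Group G] (h : Cfsg.Lie.IsoRee G) :
    Row p G := by
  obtain ⟨K, _, _, m, hm, hK, ⟨e⟩⟩ := h
  refine Row.congr ?_ e.symm
  have hfin : Finite ↥(Cfsg.Lie.twistedG2 K (3 ^ m)) := inferInstance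
  refine Row.of_pelt (minDeg_ree m hm hK) fun g a hg => ?_
  have hc := (Cfsg.Agent.S1159.result hm hK (p ^ a)).1 ⟨g, hg⟩
  obtain ⟨q, hq⟩ : ∃ q, q = 3 ^ (2 * m + 1) := ⟨_, rfl⟩
  obtain ⟨r, hr⟩ : ∃ r, r = 3 ^ (m + 1) := ⟨_, rfl⟩
  have hq27 : 27 ≤ q := by
    rw [hq]
    calc 27 = 3 ^ 3 := by norm_num
      _ ≤ 3 ^ (2 * m + 1) := Nat.pow_le_pow_right (by norm_num) (by omega)
  have hrq : r ≤ q := by rw [hq, hr]; exact Nat.pow_le_pow_right (by norm_num) (by omega)
  rw [← hq, ← hr] at hc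
  rw [← hq]
  have hle : p ^ a ≤ 2 * q + 1 := by
    rcases hc with h | h | h | h | h | h
    · have := Nat.le_of_dvd (by norm_num) h
      omega
    · have := Nat.le_of_dvd (by norm_num) h
      omega
    · have := Nat.le_of_dvd (by omega) h
      omega
    · have := Nat.le_of_dvd (by omega) h
      omega
    · have := Nat.le_of_dvd (by omega) h
      omega
    · have := Nat.le_of_dvd (by omega) h
      omega
  have h2 : 3 * q + 1 ≤ q ^ 2 := by nlinarith
  omega

theorem rowS_ree {p : ℕ} [hp : Fact p.Prime] {G : Type*} [Group G] (h : Cfsg.Lie.IsoRee G) :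
    RowS p G := (row_ree h).rowS

end Cfsg.Agent.H122.Cyc
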